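import Groth.Agent.ThetaRep.K997.Rep

/-!
# Existence of weight one representations of a theta group, irreducible subrepresentations, semisimplicity

* `IndSpace ι`: functions `f : Γ → k` with `f (ι z * x) = z * f x`; `indRep`: right translation.
* `exists_irreducible_sub`: a nonzero finite-dimensional representation has an irreducible subrepresentation.
* `exists_compl`: weight one representations are semisimple.
-/

set_option autoImplicit false

namespace K997.ThetaRepn

open K997.ThetaPairing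

section Ind

variable {k : Type*} [Field k] {Γ : Type*} [Group Γ] (ι : kˣ →* Γ)
  (hι : Function.Injective ι) (hcent : ι.range ≤ Subgroup.center Γ)

/-- functions `f : Γ → k` with `f (ι z * x) = z * f x` -/
def IndSpace : Submodule k (Γ → k) where
  carrier := {f | ∀ (z : kˣ) (x : Γ), f (ι z * x) = (z : k) * f x}
  zero_mem' := fun z x => by simp
  add_mem' := fun {f g} hf hg z x => by
    rw [Pi.add_apply, Pi.add_apply, hf z x, hg z x, mul_add]
  smul_mem' := fun c f hf z x => by
    rw [Pi.smul_apply, Pi.smul_apply, hf z x, smul_eq_mul, smul_eq_mul, mul_left_comm]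

/-- right translation -/
def indRep : Representation k Γ (IndSpace ι) where
  toFun g := LinearMap.restrict
    ({ toFun := fun f x => f (x * g)
       map_add' := fun _ _ => rfl
       map_smul' := fun _ _ => rfl } : (Γ → k) →ₗ[k] (Γ → k)) (by
      intro f hf z x
      change f (ι z * x * g) = _
      rw [mul_assoc, hf]
      rfl)
  map_one' := by
    ext f x
    change f.1 (x * 1) = f.1 x
    rw [mul_one]
  map_mul' g h := by
    ext f x
    change f.1 (x * (g * h)) = f.1 (x * g * h)
    rw [mul_assoc]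

theorem indRep_apply (g : Γ) (f : IndSpace ι) (x : Γ) : (indRep ι g f).1 x = f.1 (x * g) := rfl

include hcent in
theorem indRep_ι (z : kˣ) (f : IndSpace ι) : indRep ι (ι z) f = (z : k) • f := by
  ext x
  rw [indRep_apply, ← ι_comm ι hcent z x, f.2]
  rfl

theorem indSpace_finite [Finite (Γ ⧸ ι.range)] (hnorm : ι.range.Normal) : FiniteDimensional k (IndSpace ι) := by
  let L : IndSpace ι →ₗ[k] (Γ ⧸ ι.range → k) :=
    { toFun := fun f q => f.1 q.out
      map_add' := fun _ _ => rfl
      map_smul' := fun _ _ => rfl }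
  refine FiniteDimensional.of_injective L ?_
  intro f g h
  ext x
  obtain ⟨⟨_, z, rfl⟩, hx⟩ := QuotientGroup.mk_out_eq_mul ι.range x
  have h1 : f.1 (x : Γ ⧸ ι.range).out = g.1 (x : Γ ⧸ ι.range).out := congrFun h (x : Γ ⧸ ι.range)
  rw [hx] at h1
  have h2 : ∃ w : kˣ, x * ι z = ι w * x := by
    obtain ⟨w, hw⟩ := hnorm.conj_mem _ ⟨z, rfl⟩ x
    exact ⟨w, by rw [hw, mul_assoc, inv_mul_cancel, mul_one]⟩
  obtain ⟨w, hw⟩ := h2
  rw [hw, f.2, g.2] at h1
  exact mul_left_cancel₀ w.ne_zero h1

include hι in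
theorem indSpace_nontrivial : Nontrivial (IndSpace ι) := by
  classical
  let f0 : Γ → k := fun x => if h : x ∈ ι.range then ((MonoidHom.mem_range.mp h).choose : k) else 0
  have hf0 : ∀ z : kˣ, f0 (ι z) = z := by
    intro z
    have h : ι z ∈ ι.range := ⟨z, rfl⟩
    have h1 : f0 (ι z) = ((MonoidHom.mem_range.mp h).choose : k) := dif_pos h
    rw [h1, hι (MonoidHom.mem_range.mp h).choose_spec]
  have hmem : f0 ∈ IndSpace ι := by
    intro z x
    by_cases hx : x ∈ ι.range
    · obtain ⟨w, rfl⟩ := hx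
      rw [← map_mul, hf0, hf0, Units.val_mul]
    · have h1 : ι z * x ∉ ι.range := fun h => hx ((Subgroup.mul_mem_cancel_left ι.range (MonoidHom.mem_range.mpr ⟨z, rfl⟩)).mp h)
      have h2 : f0 (ι z * x) = 0 := dif_neg h1
      have h3 : f0 x = 0 := dif_neg hx
      rw [h2, h3, mul_zero]
  refine ⟨⟨⟨f0, hmem⟩, 0, fun h => ?_⟩⟩
  have h1 := congrFun (congrArg Subtype.val h) (ι 1)
  change f0 (ι 1) = 0 at h1
  rw [hf0] at h1
  exact one_ne_zero h1

end Ind

section Irr

variable {k : Type*} [Field k] {Γ : Type*} [Group Γ]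
  {V : Type*} [AddCommGroup V] [Module k V] (ρ : Representation k Γ V)

theorem toSubmodule_bot' : (⊥ : Subrepresentation ρ).toSubmodule = ⊥ := rfl

theorem toSubmodule_top' : (⊤ : Subrepresentation ρ).toSubmodule = ⊤ := rfl

/-- A nonzero finite-dimensional representation has an irreducible subrepresentation. -/
theorem exists_irreducible_sub [FiniteDimensional k V] [Nontrivial V] :
    ∃ σ : Subrepresentation ρ, σ.toRepresentation.IsIrreducible := by
  classical
  -- minimal dimension among nonzero subrepresentations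
  have hex : ∃ n : ℕ, ∃ σ : Subrepresentation ρ, σ.toSubmodule ≠ ⊥ ∧ Module.finrank k σ.toSubmodule = n :=
    ⟨_, ⊤, by rw [toSubmodule_top']; exact top_ne_bot, rfl⟩
  obtain ⟨σ, hσ, hn⟩ := Nat.find_spec hex
  have hmin : ∀ τ : Subrepresentation ρ, τ.toSubmodule ≠ ⊥ → τ.toSubmodule ≤ σ.toSubmodule →
      τ.toSubmodule = σ.toSubmodule := by
    intro τ hτ hle
    apply Submodule.eq_of_le_of_finrank_le hle
    rw [hn]
    exact Nat.find_min' hex ⟨τ, hτ, rfl⟩
  refine ⟨σ, ?_⟩
  have hnt : Nontrivial (Subrepresentation σ.toRepresentation) := by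
    refine ⟨⊥, ⊤, fun h => hσ ?_⟩
    have h1 := congrArg Subrepresentation.toSubmodule h
    rw [toSubmodule_bot', toSubmodule_top'] at h1
    rw [Submodule.eq_bot_iff]
    intro x hx
    have : (⟨x, hx⟩ : σ.toSubmodule) ∈ (⊥ : Submodule k σ.toSubmodule) := h1 ▸ Submodule.mem_top
    exact congrArg Subtype.val ((Submodule.mem_bot k).mp this)
  refine ⟨fun τ => ?_⟩
  let τ' : Subrepresentation ρ :=
    { toSubmodule := τ.toSubmodule.map σ.toSubmodule.subtype
      apply_mem_toSubmodule := by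
        rintro g _ ⟨x, hx, rfl⟩
        exact ⟨σ.toRepresentation g x, τ.apply_mem_toSubmodule g hx, rfl⟩ }
  by_cases hτ : τ'.toSubmodule = ⊥
  · left
    apply Subrepresentation.toSubmodule_injective
    rw [toSubmodule_bot']
    rw [Submodule.eq_bot_iff]
    intro x hx
    have h1 : (x : V) ∈ τ'.toSubmodule := ⟨x, hx, rfl⟩
    rw [hτ, Submodule.mem_bot] at h1
    exact Subtype.ext h1
  · right
    apply Subrepresentation.toSubmodule_injective
    rw [toSubmodule_top']
    have h1 := hmin τ' hτ (Submodule.map_subtype_le _ _)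
    rw [eq_top_iff]
    intro x _
    have h2 : (x : V) ∈ τ'.toSubmodule := by rw [h1]; exact x.2
    obtain ⟨y, hy, hyx⟩ := h2
    rwa [← Subtype.ext hyx]

end Irr

section Semisimple

variable {k : Type*} [Field k] {Γ : Type*} [Group Γ] (ι : kˣ →* Γ)
  (hcent : ι.range ≤ Subgroup.center Γ)
  {W : Type*} [AddCommGroup W] [Module k W]
  (σ : Representation k Γ W) (hσ : ∀ (z : kˣ) (w : W), σ (ι z) w = (z : k) • w)

include hcent hσ in
/-- Weight one representations are semisimple. -/
theorem isSemisimple [Finite (Γ ⧸ ι.range)] (hcard : (Nat.card (Γ ⧸ ι.range) : k) ≠ 0) :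
    Representation.IsSemisimpleRepresentation σ := by
  have hfin := Fintype.ofFinite (Γ ⧸ ι.range)
  refine ⟨fun U => ?_⟩
  obtain ⟨π, hπ⟩ := U.toSubmodule.subtype.exists_leftInverse_of_injective
    (LinearMap.ker_eq_bot.mpr U.toSubmodule.subtype_injective)
  have hπ' : ∀ u : W, ∀ hu : u ∈ U.toSubmodule, π u = ⟨u, hu⟩ := fun u hu =>
    LinearMap.congr_fun hπ ⟨u, hu⟩
  let T : W →ₗ[k] W := U.toSubmodule.subtype ∘ₗ π
  let A : W →ₗ[k] W := ∑ᶠ q : Γ ⧸ ι.range, (σ q.out) ∘ₗ T ∘ₗ (σ q.out⁻¹)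
  have hA : ∀ γ, (σ γ) ∘ₗ A = A ∘ₗ (σ γ) := avg_intertwining ι hcent σ hσ σ hσ T
  have hAsum : A = ∑ q : Γ ⧸ ι.range, (σ q.out) ∘ₗ T ∘ₗ (σ q.out⁻¹) := finsum_eq_sum_of_fintype _
  have hAU : ∀ w, A w ∈ U.toSubmodule := by
    intro w
    rw [hAsum, LinearMap.sum_apply]
    exact Submodule.sum_mem _ fun q _ => U.apply_mem_toSubmodule _ (π (σ q.out⁻¹ w)).2
  have hAid : ∀ u ∈ U.toSubmodule, A u = (Nat.card (Γ ⧸ ι.range) : k) • u := by
    intro u hu
    rw [hAsum, LinearMap.sum_apply]
    have h1 : ∀ q : Γ ⧸ ι.range, ((σ q.out) ∘ₗ T ∘ₗ (σ q.out⁻¹)) u = u := by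
      intro q
      have h2 : T (σ q.out⁻¹ u) = σ q.out⁻¹ u := by
        change ((π (σ q.out⁻¹ u) : U.toSubmodule) : W) = _
        rw [hπ' _ (U.apply_mem_toSubmodule _ hu)]
      rw [LinearMap.comp_apply, LinearMap.comp_apply, h2, ← Module.End.mul_apply, ← map_mul,
        mul_inv_cancel, map_one, Module.End.one_apply]
    rw [Finset.sum_congr rfl fun q _ => h1 q, Finset.sum_const, Finset.card_univ,
      ← Nat.card_eq_fintype_card, Nat.cast_smul_eq_nsmul]
  let C : Subrepresentation σ :=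
    { toSubmodule := LinearMap.ker A
      apply_mem_toSubmodule := by
        intro g w hw
        rw [LinearMap.mem_ker] at hw ⊢
        have := LinearMap.congr_fun (hA g) w
        rw [LinearMap.comp_apply, LinearMap.comp_apply, hw, map_zero] at this
        exact this.symm }
  refine ⟨C, ?_, ?_⟩
  · rw [disjoint_iff_inf_le]
    intro x hx
    have hxU : x ∈ U.toSubmodule := hx.1
    have hxC : A x = 0 := hx.2
    rw [hAid x hxU] at hxC
    have : x = 0 := (smul_eq_zero.mp hxC).resolve_left hcard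
    rw [this]
    exact (⊥ : Subrepresentation σ).toSubmodule.zero_mem
  · rw [codisjoint_iff_le_sup]
    intro x _
    have h1 : x = (Nat.card (Γ ⧸ ι.range) : k)⁻¹ • A x + (x - (Nat.card (Γ ⧸ ι.range) : k)⁻¹ • A x) := by abel
    have h2 : (Nat.card (Γ ⧸ ι.range) : k)⁻¹ • A x ∈ U.toSubmodule := Submodule.smul_mem _ _ (hAU x)
    have h3 : (x - (Nat.card (Γ ⧸ ι.range) : k)⁻¹ • A x) ∈ C.toSubmodule := by
      change A _ = 0
      rw [map_sub, map_smul, hAid _ (hAU x), smul_smul, inv_mul_cancel₀ hcard, one_smul, sub_self]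
    change x ∈ (U ⊔ C).toSubmodule
    rw [Subrepresentation.toSubmodule_sup]
    exact Submodule.mem_sup.mpr ⟨_, h2, _, h3, h1.symm⟩

end Semisimple

end K997.ThetaRepn
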