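import Groth.Agent.ThetaRep.K997.Exist

/-!
# Level subgroups of a theta group

* `centralizer_sup_le`: for a maximal level subgroup `H`, the centralizer of `H ⊔ kˣ` is `H ⊔ kˣ`.
* `card_sq_of_maximal`: `|H|² = |Γ/kˣ|`.
* `finrank_eq_card_mul_invariants`: for a level subgroup `H` and a weight one representation `W`,
  `dim W = |H| · dim W^H`.
-/

set_option autoImplicit false

namespace K997.ThetaLevel

open K997.ThetaPairing K997.ThetaRepn
open scoped commutatorElement

section Group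

variable {k : Type*} [Field k] {Γ : Type*} [Group Γ] (ι : kˣ →* Γ)
  (hι : Function.Injective ι) (hcent : ι.range ≤ Subgroup.center Γ) (hcomm : commutator Γ ≤ ι.range)
  (H : Subgroup Γ) (hH : H ⊓ ι.range = ⊥)

include hcomm hH in
/-- a level subgroup is commutative -/
theorem comm_of_level (a b : Γ) (ha : a ∈ H) (hb : b ∈ H) : a * b = b * a := by
  have h1 : ⁅a, b⁆ ∈ H ⊓ ι.range := by
    refine ⟨?_, hcomm (Subgroup.commutator_mem_commutator (Subgroup.mem_top a) (Subgroup.mem_top b))⟩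
    rw [commutatorElement_def]
    exact H.mul_mem (H.mul_mem (H.mul_mem ha hb) (H.inv_mem ha)) (H.inv_mem hb)
  rw [hH, Subgroup.mem_bot, commutatorElement_eq_one_iff_mul_comm] at h1
  exact h1

include hcomm in
theorem normal_sup : (H ⊔ ι.range).Normal where
  conj_mem n hn g := by
    have h1 : g * n * g⁻¹ = ⁅g, n⁆ * n := by rw [commutatorElement_def]; group
    rw [h1]
    exact (H ⊔ ι.range).mul_mem (le_sup_right (a := H)
      (hcomm (Subgroup.commutator_mem_commutator (Subgroup.mem_top g) (Subgroup.mem_top n)))) hn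

include hcent in
theorem mem_sup_iff (x : Γ) : x ∈ H ⊔ ι.range ↔ ∃ h ∈ H, ∃ z : kˣ, x = h * ι z := by
  have hnorm := normal_range ι hcent
  rw [Subgroup.mem_sup_of_normal_right]
  constructor
  · rintro ⟨h, hh, _, ⟨z, rfl⟩, rfl⟩
    exact ⟨h, hh, z, rfl⟩
  · rintro ⟨h, hh, z, rfl⟩
    exact ⟨h, hh, _, ⟨z, rfl⟩, rfl⟩

include hcent hcomm hH in
/-- the centralizer of a maximal level subgroup `H` is contained in `H · kˣ`. -/
theorem centralizer_le [IsAlgClosed k] [Finite (Γ ⧸ ι.range)]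
    (hmax : ∀ H' : Subgroup Γ, H' ⊓ ι.range = ⊥ → H ≤ H' → H' = H) (x : Γ)
    (hx : ∀ h ∈ H, x * h = h * x) : x ∈ H ⊔ ι.range := by
  classical
  by_contra hxN
  have hnorm := normal_range ι hcent
  have hN : (H ⊔ ι.range).Normal := normal_sup ι hcomm H
  have hfin : Finite (Γ ⧸ (H ⊔ ι.range)) :=
    Finite.of_surjective (QuotientGroup.map ι.range (H ⊔ ι.range) (MonoidHom.id Γ) le_sup_right)
      (QuotientGroup.map_surjective_of_surjective _ _ _ (fun q => by
        induction q using QuotientGroup.induction_on with | _ a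
        exact ⟨a, rfl⟩) _)
  let m := orderOf (x : Γ ⧸ (H ⊔ ι.range))
  have hm : 0 < m := orderOf_pos _
  have hdvd : ∀ j : ℤ, x ^ j ∈ H ⊔ ι.range → (m : ℤ) ∣ j := by
    intro j hj
    rw [orderOf_dvd_iff_zpow_eq_one, ← QuotientGroup.mk_zpow]
    exact (QuotientGroup.eq_one_iff _).mpr hj
  have hxm : x ^ m ∈ H ⊔ ι.range := by
    rw [← QuotientGroup.eq_one_iff, QuotientGroup.mk_pow]
    exact pow_orderOf_eq_one _
  obtain ⟨h, hh, z, hz⟩ := (mem_sup_iff ι hcent H _).mp hxm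
  obtain ⟨w0, hw0⟩ := IsAlgClosed.exists_pow_nat_eq (z : k) hm
  have hw0' : w0 ≠ 0 := by
    rintro rfl
    rw [zero_pow hm.ne'] at hw0
    exact z.ne_zero hw0.symm
  let w : kˣ := Units.mk0 w0 hw0'
  have hw : w ^ m = z := Units.ext (by simpa [w] using hw0)
  -- the corrected element
  let x' : Γ := x * ι w⁻¹
  have hx' : ∀ h ∈ H, x' * h = h * x' := by
    intro h hh
    change x * ι w⁻¹ * h = h * (x * ι w⁻¹)
    rw [mul_assoc, ι_comm ι hcent, ← mul_assoc, hx h hh, mul_assoc]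
  have hcx : Commute x (ι w⁻¹) := (ι_comm ι hcent _ _).symm
  have hx'm : x' ^ m = h := by
    change (x * ι w⁻¹) ^ m = h
    rw [hcx.mul_pow, hz, ← map_pow, inv_pow, hw, mul_assoc, ← map_mul, mul_inv_cancel, map_one, mul_one]
  have hzp : ∀ h ∈ H, ∀ j : ℤ, x' ^ j * h = h * x' ^ j := fun h hh j =>
    ((show Commute x' h from hx' h hh).zpow_left j)
  let H' : Subgroup Γ :=
    { carrier := {y | ∃ h ∈ H, ∃ j : ℤ, y = h * x' ^ j}
      one_mem' := ⟨1, H.one_mem, 0, by simp⟩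
      mul_mem' := by
        rintro _ _ ⟨a, ha, i, rfl⟩ ⟨b, hb, j, rfl⟩
        refine ⟨a * b, H.mul_mem ha hb, i + j, ?_⟩
        rw [mul_assoc, ← mul_assoc (x' ^ i), hzp b hb, zpow_add]
        simp only [mul_assoc]
      inv_mem' := by
        rintro _ ⟨a, ha, i, rfl⟩
        refine ⟨a⁻¹, H.inv_mem ha, -i, ?_⟩
        rw [mul_inv_rev, ← zpow_neg, hzp _ (H.inv_mem ha)] }
  have hHH' : H ≤ H' := fun a ha => ⟨a, ha, 0, by simp⟩
  have hx'H' : x' ∈ H' := ⟨1, H.one_mem, 1, by simp⟩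
  have hH'level : H' ⊓ ι.range = ⊥ := by
    rw [eq_bot_iff]
    rintro _ ⟨⟨a, ha, j, rfl⟩, ⟨z', hz'⟩⟩
    have hxj : x ^ j = a⁻¹ * (ι z' * ι (w ^ j)) := by
      have h1 : x = x' * ι w := by
        change x = x * ι w⁻¹ * ι w
        rw [mul_assoc, ← map_mul, inv_mul_cancel, map_one, mul_one]
      have hc : Commute x' (ι w) := (ι_comm ι hcent _ _).symm
      rw [h1, hc.mul_zpow, hz', ← map_zpow, ← mul_assoc, inv_mul_cancel_left]
    have h2 : x ^ j ∈ H ⊔ ι.range := by
      rw [hxj]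
      exact (mem_sup_iff ι hcent H _).mpr ⟨a⁻¹, H.inv_mem ha, z' * w ^ j, by rw [map_mul]⟩
    obtain ⟨l, hl⟩ := hdvd j h2
    have h3 : x' ^ j ∈ H := by
      rw [hl, zpow_mul, zpow_natCast, hx'm]
      exact H.zpow_mem hh l
    have h4 : a * x' ^ j ∈ H ⊓ ι.range := ⟨H.mul_mem ha h3, ⟨z', hz'⟩⟩
    rw [hH] at h4
    exact h4
  have h5 := hmax H' hH'level hHH'
  apply hxN
  rw [mem_sup_iff ι hcent]
  refine ⟨x', h5 ▸ hx'H', w, ?_⟩
  change x = x * ι w⁻¹ * ι w
  rw [mul_assoc, ← map_mul, inv_mul_cancel, map_one, mul_one]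

include hι hcent hcomm hH in
/-- A maximal level subgroup `H` satisfies `|H|² = |Γ/kˣ|`. -/
theorem card_sq_of_maximal (hcent' : Subgroup.center Γ ≤ ι.range) [IsAlgClosed k] [Finite (Γ ⧸ ι.range)]
    (hcop : (Nat.card (Γ ⧸ ι.range)).Coprime (ringExpChar k))
    (hmax : ∀ H' : Subgroup Γ, H' ⊓ ι.range = ⊥ → H ≤ H' → H' = H) :
    Nat.card H ^ 2 = Nat.card (Γ ⧸ ι.range) := by
  have hnorm := normal_range ι hcent
  have hcentr : Subgroup.centralizer ((H ⊔ ι.range : Subgroup Γ) : Set Γ) = H ⊔ ι.range := by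
    apply le_antisymm
    · intro x hx
      rw [Subgroup.mem_centralizer_iff] at hx
      exact centralizer_le ι hcent hcomm H hH hmax x (fun h hh => (hx h (le_sup_left (a := H) hh)).symm)
    · intro x hx
      rw [Subgroup.mem_centralizer_iff]
      intro y hy
      obtain ⟨a, ha, z, rfl⟩ := (mem_sup_iff ι hcent H _).mp hx
      obtain ⟨b, hb, w, rfl⟩ := (mem_sup_iff ι hcent H _).mp hy
      have hc : ∀ (z : kˣ) (x : Γ), Commute (ι z) x := fun z x => ι_comm ι hcent z x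
      have hba : Commute b a := comm_of_level ι hcomm H hH b a hb ha
      exact (hba.mul_right (hc z b).symm).mul_left ((hc w a).mul_right (hc w _))
  have h1 := index_eq ι hι hcent hcomm hcent' hcop (H ⊔ ι.range)
  rw [hcentr] at h1
  have h2 : ι.range.relIndex (H ⊔ ι.range) = Nat.card H := by
    rw [Subgroup.relIndex_sup_right, ← Subgroup.inf_relIndex_left, hH, Subgroup.relIndex_bot_left]
  rw [h2] at h1
  rw [pow_two, h1]
  rfl

include hcent hH in
theorem finite_of_level [Finite (Γ ⧸ ι.range)] : Finite H := by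
  have hnorm := normal_range ι hcent
  refine Finite.of_injective (fun h : H => ((h : Γ) : Γ ⧸ ι.range)) ?_
  intro a b hab
  have h1 : (a : Γ)⁻¹ * b ∈ ι.range := QuotientGroup.eq.mp hab
  have h2 : (a : Γ)⁻¹ * b ∈ H ⊓ ι.range := ⟨H.mul_mem (H.inv_mem a.2) b.2, h1⟩
  rw [hH, Subgroup.mem_bot] at h2
  exact Subtype.ext (inv_mul_eq_one.mp h2)

include hcent hH in
theorem card_dvd_of_level [Finite (Γ ⧸ ι.range)] : Nat.card H ∣ Nat.card (Γ ⧸ ι.range) := by
  have hnorm := normal_range ι hcent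
  let f : H →* Γ ⧸ ι.range := (QuotientGroup.mk' ι.range).comp H.subtype
  have hf : Function.Injective f := by
    intro a b hab
    have h1 : (a : Γ)⁻¹ * b ∈ ι.range := QuotientGroup.eq.mp hab
    have h2 : (a : Γ)⁻¹ * b ∈ H ⊓ ι.range := ⟨H.mul_mem (H.inv_mem a.2) b.2, h1⟩
    rw [hH, Subgroup.mem_bot] at h2
    exact Subtype.ext (inv_mul_eq_one.mp h2)
  exact Subgroup.card_dvd_of_injective f hf

end Group

section Orth

/-- orthogonality: the sum over all characters of `χ h` -/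
theorem sum_char_eq {k H : Type*} [Field k] [CommGroup H] [Finite H] [Fintype (H →* kˣ)]
    [HasEnoughRootsOfUnity k (Monoid.exponent H)] (h : H) (hh : h ≠ 1) :
    ∑ χ : H →* kˣ, (χ h : k) = 0 := by
  obtain ⟨ψ, hψ⟩ := CommGroup.exists_apply_ne_one_of_hasEnoughRootsOfUnity H k hh
  have h1 : ∑ χ : H →* kˣ, (χ h : k) = ∑ χ : H →* kˣ, ((ψ * χ) h : k) :=
    (Fintype.sum_equiv (Equiv.mulLeft ψ) _ _ (fun _ => rfl)).symm
  have h2 : ∑ χ : H →* kˣ, ((ψ * χ) h : k) = (ψ h : k) * ∑ χ : H →* kˣ, (χ h : k) := by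
    rw [Finset.mul_sum]
    exact Finset.sum_congr rfl fun χ _ => by rw [MonoidHom.mul_apply, Units.val_mul]
  rw [h2] at h1
  have h3 : ((ψ h : k) - 1) * ∑ χ : H →* kˣ, (χ h : k) = 0 := by rw [sub_mul, one_mul, ← h1, sub_self]
  refine (mul_eq_zero.mp h3).resolve_left fun h4 => hψ (Units.ext ?_)
  rw [Units.val_one]
  exact sub_eq_zero.mp h4

theorem sum_elt_eq {k H : Type*} [Field k] [Group H] [Fintype H] (χ : H →* kˣ) (hχ : χ ≠ 1) :
    ∑ h : H, (χ h : k) = 0 := by
  obtain ⟨g, hg⟩ : ∃ g, χ g ≠ 1 := by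
    by_contra hcon
    push Not at hcon
    exact hχ (MonoidHom.ext hcon)
  have h1 : ∑ h : H, (χ h : k) = ∑ h : H, (χ (g * h) : k) :=
    (Fintype.sum_equiv (Equiv.mulLeft g) _ _ (fun _ => rfl)).symm
  have h2 : ∑ h : H, (χ (g * h) : k) = (χ g : k) * ∑ h : H, (χ h : k) := by
    rw [Finset.mul_sum]
    exact Finset.sum_congr rfl fun χ _ => by rw [map_mul, Units.val_mul]
  rw [h2] at h1
  have h3 : ((χ g : k) - 1) * ∑ h : H, (χ h : k) = 0 := by rw [sub_mul, one_mul, ← h1, sub_self]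
  refine (mul_eq_zero.mp h3).resolve_left fun h4 => hg (Units.ext ?_)
  rw [Units.val_one]
  exact sub_eq_zero.mp h4

end Orth

section Inv

variable {k : Type*} [Field k] {Γ : Type*} [Group Γ] (ι : kˣ →* Γ)
  (hι : Function.Injective ι) (hcent : ι.range ≤ Subgroup.center Γ) (hcomm : commutator Γ ≤ ι.range)
  (H : Subgroup Γ) (hH : H ⊓ ι.range = ⊥)
  {W : Type*} [AddCommGroup W] [Module k W]
  (σ : Representation k Γ W) (hσ : ∀ (z : kˣ) (w : W), σ (ι z) w = (z : k) • w)

include hι hcent hcomm hH hσ in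
/-- For a level subgroup `H` and a weight one representation `W`, `dim W = dim W^H · |H|`. -/
theorem finrank_eq (hcent' : Subgroup.center Γ ≤ ι.range) [IsAlgClosed k] [Finite (Γ ⧸ ι.range)]
    (hcop : (Nat.card (Γ ⧸ ι.range)).Coprime (ringExpChar k)) [FiniteDimensional k W] :
    Module.finrank k W =
      Module.finrank k (Representation.invariants (σ.comp H.subtype)) * Nat.card H := by
  classical
  have hfin : Finite H := finite_of_level ι hcent H hH
  have hF : Fintype H := Fintype.ofFinite H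
  let cg : CommGroup H :=
    { (inferInstance : Group H) with
      mul_comm := fun a b => Subtype.ext (comm_of_level ι hcomm H hH a b a.2 b.2) }
  have hdvd := card_dvd_of_level ι hcent H hH
  have hroots : HasEnoughRootsOfUnity k (Monoid.exponent H) :=
    hasEnough ι hcop _ (Group.exponent_dvd_nat_card.trans hdvd)
  have hcardne : (Nat.card H : k) ≠ 0 := natCast_ne_zero ι hcop _ hdvd
  have hcardX : Nat.card (H →* kˣ) = Nat.card H := CommGroup.card_monoidHom_of_hasEnoughRootsOfUnity _ _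
  have hfinX : Finite (H →* kˣ) := Nat.finite_of_card_ne_zero (by rw [hcardX]; exact Nat.card_pos.ne')
  have hFX : Fintype (H →* kˣ) := Fintype.ofFinite _
  -- choose `γ χ`
  have hex : ∀ χ : H →* kˣ, ∃ γ : Γ, ∀ h : H, pair ι hcomm γ h = χ h := fun χ =>
    exists_pair_eq ι hι hcent hcomm hcent' hcop H χ (fun h hh => by
      have : (h : Γ) ∈ H ⊓ ι.range := ⟨h.2, hh⟩
      rw [hH, Subgroup.mem_bot] at this
      rw [show h = 1 from Subtype.ext this, map_one])
  choose γ hγ using hex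
  let I := Representation.invariants (σ.comp H.subtype)
  have hI : ∀ w, w ∈ I ↔ ∀ h : H, σ h w = w := fun w => Iff.rfl
  -- the sum over H
  let P : W →ₗ[k] W := ∑ h : H, σ h
  have hPapp : ∀ w, P w = ∑ h : H, σ h w := fun w => LinearMap.sum_apply _ _ _
  have hPI : ∀ w, P w ∈ I := by
    intro w
    rw [hI]
    intro g
    rw [hPapp, map_sum]
    refine Fintype.sum_equiv (Equiv.mulLeft g) _ _ (fun h => ?_)
    rw [← Module.End.mul_apply, ← map_mul]
    rfl
  -- key computation 1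
  have key1 : ∀ w, ∑ χ : H →* kˣ, σ (γ χ) (P (σ (γ χ)⁻¹ w)) = (Nat.card H : k) • w := by
    intro w
    have h1 : ∀ χ : H →* kˣ, σ (γ χ) (P (σ (γ χ)⁻¹ w)) = ∑ h : H, (χ h : k) • σ h w := by
      intro χ
      rw [hPapp, map_sum]
      refine Finset.sum_congr rfl fun h _ => ?_
      rw [← Module.End.mul_apply, ← Module.End.mul_apply, ← map_mul, ← map_mul,
        mul_eq ι hcomm (γ χ) (h : Γ), mul_assoc, mul_assoc, mul_inv_cancel, mul_one,
        rho_ι_mul ι σ hσ, hγ, LinearMap.smul_apply]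
    rw [Finset.sum_congr rfl fun χ _ => h1 χ, Finset.sum_comm]
    have h2 : ∀ h : H, ∑ χ : H →* kˣ, (χ h : k) • σ h w = (∑ χ : H →* kˣ, (χ h : k)) • σ h w :=
      fun h => (Finset.sum_smul).symm
    rw [Finset.sum_congr rfl fun h _ => h2 h, Finset.sum_eq_single (1 : H)]
    · have h3 : ((∑ χ : H →* kˣ, ((χ 1 : kˣ) : k))) = (Nat.card H : k) := by
        rw [← hcardX, Nat.card_eq_fintype_card]
        simp
      rw [h3, Subgroup.coe_one, map_one, Module.End.one_apply]
    · intro h _ hh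
      rw [sum_char_eq h hh, zero_smul]
    · intro h
      exact absurd (Finset.mem_univ _) h
  -- key computation 2
  have key2 : ∀ w ∈ I, ∀ χ ψ : H →* kˣ, P (σ ((γ χ)⁻¹ * γ ψ) w) =
      if ψ = χ then (Nat.card H : k) • w else 0 := by
    intro w hw χ ψ
    have hpair : ∀ h : H, pair ι hcomm (h : Γ) ((γ χ)⁻¹ * γ ψ) = (χ * ψ⁻¹) h := by
      intro h
      have h1 : pair ι hcomm (h : Γ) ((γ χ)⁻¹ * γ ψ) * pair ι hcomm ((γ χ)⁻¹ * γ ψ) h = 1 := by
        generalize (γ χ)⁻¹ * γ ψ = g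
        have h2 := mul_eq ι hcomm (h : Γ) g
        rw [mul_eq ι hcomm g (h : Γ), ← mul_assoc, ← map_mul] at h2
        apply hι
        rw [map_one]
        exact (mul_eq_right.mp h2.symm)
      have h2 : pair ι hcomm ((γ χ)⁻¹ * γ ψ) h = (χ⁻¹ * ψ) h := by
        have h3 : pairHom ι hι hcent hcomm ((γ χ)⁻¹ * γ ψ) h = (χ⁻¹ * ψ) h := by
          rw [map_mul, map_inv, MonoidHom.mul_apply, MonoidHom.inv_apply, pairHom_apply, pairHom_apply,
            hγ, hγ]
          rfl
        exact h3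
      rw [h2] at h1
      rw [eq_inv_of_mul_eq_one_left h1]
      simp [mul_comm]
    have h1 : ∀ h : H, σ h (σ ((γ χ)⁻¹ * γ ψ) w) = ((χ * ψ⁻¹) h : k) • σ ((γ χ)⁻¹ * γ ψ) w := by
      intro h
      rw [← Module.End.mul_apply, ← map_mul, mul_eq ι hcomm (h : Γ), rho_ι_mul ι σ hσ,
        LinearMap.smul_apply, hpair, map_mul, Module.End.mul_apply, (hI w).mp hw h]
    rw [hPapp, Finset.sum_congr rfl fun h _ => h1 h, ← Finset.sum_smul]
    split_ifs with hψ
    · subst hψ
      have h2 : ∑ i : H, (((ψ * ψ⁻¹) i : kˣ) : k) = (Nat.card H : k) := by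
        have h3 : ∀ i : H, (((ψ * ψ⁻¹) i : kˣ) : k) = 1 := fun i => by
          rw [MonoidHom.mul_apply, MonoidHom.inv_apply, mul_inv_cancel, Units.val_one]
        rw [Finset.sum_congr rfl fun i _ => h3 i]
        simp [Nat.card_eq_fintype_card]
      rw [h2, inv_mul_cancel, map_one, Module.End.one_apply]
    · rw [sum_elt_eq, zero_smul]
      intro h2
      exact hψ (mul_inv_eq_one.mp h2).symm
  let Ψ : ((H →* kˣ) → I) →ₗ[k] W :=
    ∑ χ : H →* kˣ, (σ (γ χ)) ∘ₗ I.subtype ∘ₗ (LinearMap.proj χ)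
  have hΨ : ∀ f, Ψ f = ∑ χ : H →* kˣ, σ (γ χ) (f χ) := fun f => LinearMap.sum_apply _ _ _
  have hcomp : ∀ (a b : Γ) (w : W), σ a (σ b w) = σ (a * b) w := fun a b w => by
    rw [map_mul, Module.End.mul_apply]
  have hbij : Function.Bijective Ψ := by
    constructor
    · rw [injective_iff_map_eq_zero]
      intro f hf
      funext χ
      have h1 : P (σ (γ χ)⁻¹ (Ψ f)) = (Nat.card H : k) • (f χ : W) := by
        rw [hΨ, map_sum, map_sum, Finset.sum_eq_single χ]
        · rw [hcomp, key2 _ (f χ).2, if_pos rfl]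
        · intro ψ _ hψ
          rw [hcomp, key2 _ (f ψ).2, if_neg hψ]
        · intro h
          exact absurd (Finset.mem_univ _) h
      rw [hf, map_zero, map_zero] at h1
      exact Subtype.ext ((smul_eq_zero.mp h1.symm).resolve_left hcardne)
    · intro w
      refine ⟨fun χ => (Nat.card H : k)⁻¹ • ⟨P (σ (γ χ)⁻¹ w), hPI _⟩, ?_⟩
      rw [hΨ]
      have h1 : ∀ χ : H →* kˣ, σ (γ χ) (((Nat.card H : k)⁻¹ • (⟨P (σ (γ χ)⁻¹ w), hPI _⟩ : I) : I) : W) =
          (Nat.card H : k)⁻¹ • σ (γ χ) (P (σ (γ χ)⁻¹ w)) := fun χ => by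
        rw [Submodule.coe_smul, map_smul]
      rw [Finset.sum_congr rfl fun χ _ => h1 χ, ← Finset.smul_sum, key1, smul_smul,
        inv_mul_cancel₀ hcardne, one_smul]
  rw [← (LinearEquiv.ofBijective Ψ hbij).finrank_eq, Module.finrank_pi_fintype, Finset.sum_const,
    Finset.card_univ, ← Nat.card_eq_fintype_card, hcardX, smul_eq_mul, mul_comm]

end Inv

end K997.ThetaLevel
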