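import Mathlib.GroupTheory.FiniteAbelian.Duality
import Mathlib.RingTheory.RootsOfUnity.AlgebraicallyClosed
import Mathlib.GroupTheory.Commutator.Basic
import Mathlib.FieldTheory.IsAlgClosed.Basic
import Mathlib.Algebra.CharP.Defs
import Mathlib.Algebra.CharP.Lemmas
import Mathlib.GroupTheory.Index

/-!
# The commutator pairing of a theta group (group of points)

Let `k` be a field and `ι : kˣ →* Γ` an injective homomorphism with central image containing all
commutators.  `pair x y : kˣ` is the element with `ι (pair x y) = ⁅x, y⁆`.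

* `index_eq`: `(ι.range.relIndex H) * (ι.range.relIndex (centralizer H)) = ι.range.index`.
* `exists_pair_eq`: every character of a subgroup `H`, trivial on `H ⊓ ι.range`, is `pair γ · `.
-/

set_option autoImplicit false

namespace K997.ThetaPairing

open scoped commutatorElement

variable {k : Type*} [Field k] {Γ : Type*} [Group Γ] (ι : kˣ →* Γ)
  (hι : Function.Injective ι) (hcent : ι.range ≤ Subgroup.center Γ) (hcomm : commutator Γ ≤ ι.range)

include hcomm in
theorem exists_pair (x y : Γ) : ∃ z : kˣ, ι z = ⁅x, y⁆ :=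
  hcomm (Subgroup.commutator_mem_commutator (Subgroup.mem_top x) (Subgroup.mem_top y))

/-- The commutator pairing. -/
noncomputable def pair (x y : Γ) : kˣ := (exists_pair ι hcomm x y).choose

theorem ι_pair (x y : Γ) : ι (pair ι hcomm x y) = ⁅x, y⁆ := (exists_pair ι hcomm x y).choose_spec

include hcent in
theorem ι_comm (z : kˣ) (x : Γ) : ι z * x = x * ι z :=
  (Subgroup.mem_center_iff.mp (hcent ⟨z, rfl⟩) x).symm

theorem mul_eq (x y : Γ) : x * y = ι (pair ι hcomm x y) * (y * x) := by
  rw [ι_pair, commutatorElement_def]; group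

include hι in
theorem pair_unique (x y : Γ) (z : kˣ) (h : x * y = ι z * (y * x)) : pair ι hcomm x y = z := by
  apply hι
  rw [ι_pair, commutatorElement_def, h]; group

include hι in
theorem pair_eq_one_iff (x y : Γ) : pair ι hcomm x y = 1 ↔ x * y = y * x := by
  constructor
  · intro h
    rw [mul_eq ι hcomm x y, h, map_one, one_mul]
  · intro h
    exact pair_unique ι hι hcomm x y 1 (by rw [map_one, one_mul, h])

include hι hcent in
theorem pair_mul_left (x y z : Γ) :
    pair ι hcomm (x * y) z = pair ι hcomm x z * pair ι hcomm y z := by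
  apply pair_unique ι hι
  rw [mul_assoc x y z, mul_eq ι hcomm y z, ← mul_assoc x, ← ι_comm ι hcent _ x, map_mul, mul_assoc,
    ← mul_assoc x z y, mul_eq ι hcomm x z]
  rw [ι_comm ι hcent (pair ι hcomm y z)]
  simp only [mul_assoc]
  rw [ι_comm ι hcent (pair ι hcomm y z)]
  simp only [mul_assoc]

include hι hcent in
theorem pair_mul_right (x y z : Γ) :
    pair ι hcomm x (y * z) = pair ι hcomm x y * pair ι hcomm x z := by
  apply pair_unique ι hι
  rw [← mul_assoc, mul_eq ι hcomm x y, map_mul, mul_assoc, mul_assoc, mul_eq ι hcomm x z,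
    ← mul_assoc y, ← ι_comm ι hcent _ y]
  simp only [mul_assoc]

/-- `γ ↦ (h ↦ pair γ h)`, as a homomorphism `Γ → Hom(Γ, kˣ)`. -/
noncomputable def pairHom : Γ →* (Γ →* kˣ) where
  toFun x := MonoidHom.mk' (fun y => pair ι hcomm x y) (fun y z => pair_mul_right ι hι hcent hcomm x y z)
  map_one' := by
    ext y
    have := (pair_eq_one_iff ι hι hcomm 1 y).mpr (by simp)
    simp [this]
  map_mul' x y := by
    ext z
    simp [pair_mul_left ι hι hcent hcomm x y z]

@[simp] theorem pairHom_apply (x y : Γ) : pairHom ι hι hcent hcomm x y = pair ι hcomm x y := rfl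

include hι hcent in
theorem pair_ι_right (x : Γ) (z : kˣ) : pair ι hcomm x (ι z) = 1 :=
  (pair_eq_one_iff ι hι hcomm _ _).mpr (ι_comm ι hcent z x).symm

include hι hcent in
theorem pair_ι_left (x : Γ) (z : kˣ) : pair ι hcomm (ι z) x = 1 :=
  (pair_eq_one_iff ι hι hcomm _ _).mpr (ι_comm ι hcent z x)

include hcent in
theorem normal_range : ι.range.Normal where
  conj_mem n hn g := by
    have := Subgroup.mem_center_iff.mp (hcent hn) g
    rw [this, mul_assoc, mul_inv_cancel, mul_one]
    exact hn

/-- the restriction of the pairing to a subgroup -/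
noncomputable def resHom (H : Subgroup Γ) : Γ →* (H →* kˣ) :=
  (MonoidHom.domRestrictHom H kˣ).comp (pairHom ι hι hcent hcomm)

@[simp] theorem resHom_apply (H : Subgroup Γ) (x : Γ) (h : H) :
    resHom ι hι hcent hcomm H x h = pair ι hcomm x h := rfl

theorem ker_resHom (H : Subgroup Γ) :
    (resHom ι hι hcent hcomm H).ker = Subgroup.centralizer (H : Set Γ) := by
  ext x
  rw [MonoidHom.mem_ker, Subgroup.mem_centralizer_iff]
  constructor
  · intro h y hy
    have := DFunLike.congr_fun h ⟨y, hy⟩
    rw [resHom_apply] at this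
    exact ((pair_eq_one_iff ι hι hcomm x y).mp this).symm
  · intro h
    ext y
    rw [resHom_apply, (pair_eq_one_iff ι hι hcomm x y).mpr (h y y.2).symm]
    rfl

section Duality

variable (hcent' : Subgroup.center Γ ≤ ι.range) [IsAlgClosed k] [Finite (Γ ⧸ ι.range)]
  (hcop : (Nat.card (Γ ⧸ ι.range)).Coprime (ringExpChar k))

include hcop in
omit [IsAlgClosed k] in
theorem natCast_ne_zero (n : ℕ) (hn : n ∣ Nat.card (Γ ⧸ ι.range)) : (n : k) ≠ 0 := by
  intro h
  have hpos : 0 < Nat.card (Γ ⧸ ι.range) := Nat.card_pos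
  have hn0 : n ≠ 0 := by rintro rfl; exact hpos.ne' (Nat.eq_zero_of_zero_dvd hn)
  obtain ⟨q, hq⟩ : ∃ q, ExpChar k q := ⟨_, ringExpChar.expChar k⟩
  have hq' : ringExpChar k = q := ringExpChar.eq k q
  rw [hq'] at hcop
  rcases hq with _ | hp
  · exact hn0 (by exact_mod_cast h)
  · have hdvd : q ∣ n := (CharP.cast_eq_zero_iff k q n).mp h
    have := Nat.Coprime.eq_one_of_dvd (Nat.Coprime.symm hcop) (hdvd.trans hn)
    exact hp.one_lt.ne' this

include hcop in
theorem hasEnough (n : ℕ) (hn : n ∣ Nat.card (Γ ⧸ ι.range)) : HasEnoughRootsOfUnity k n := by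
  have : NeZero (n : k) := ⟨natCast_ne_zero ι hcop n hn⟩
  infer_instance

/-- the commutative group structure of `Γ ⧸ ι.range` -/
@[reducible] noncomputable def commGroupQuot [ι.range.Normal] : CommGroup (Γ ⧸ ι.range) where
  mul_comm := by
    intro a b
    induction a using QuotientGroup.induction_on with | _ a
    induction b using QuotientGroup.induction_on with | _ b
    rw [← QuotientGroup.mk_mul, ← QuotientGroup.mk_mul, QuotientGroup.eq]
    have := hcomm (Subgroup.commutator_mem_commutator (Subgroup.mem_top b⁻¹) (Subgroup.mem_top a⁻¹))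
    rw [commutatorElement_def] at this
    simpa [mul_assoc] using this

include hι hcent hcomm hcent' hcop in
/-- Every character of `Γ` trivial on `ι.range` is `pair γ ·` for some `γ`. -/
theorem exists_pair_eq_of_char (χ : Γ →* kˣ) (hχ : ∀ z, χ (ι z) = 1) :
    ∃ γ : Γ, ∀ x, pair ι hcomm γ x = χ x := by
  have hnorm := normal_range ι hcent
  let cg : CommGroup (Γ ⧸ ι.range) := commGroupQuot ι hcomm
  have hex : Monoid.exponent (Γ ⧸ ι.range) ∣ Nat.card (Γ ⧸ ι.range) := Group.exponent_dvd_nat_card
  have : HasEnoughRootsOfUnity k (Monoid.exponent (Γ ⧸ ι.range)) := hasEnough ι hcop _ hex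
  have hker : ∀ x : Γ, ι.range ≤ (pairHom ι hι hcent hcomm x).ker := by
    rintro x _ ⟨z, rfl⟩
    rw [MonoidHom.mem_ker, pairHom_apply, pair_ι_right ι hι hcent]
  let E0 : Γ → ((Γ ⧸ ι.range) →* kˣ) := fun x => QuotientGroup.lift ι.range (pairHom ι hι hcent hcomm x) (hker x)
  let E : (Γ ⧸ ι.range) → ((Γ ⧸ ι.range) →* kˣ) := fun q => E0 q.out
  have hEinj : Function.Injective E := by
    intro q q' h
    have h1 : ∀ y : Γ, pair ι hcomm q.out y = pair ι hcomm q'.out y := fun y => by
      have := DFunLike.congr_fun h (y : Γ ⧸ ι.range)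
      simpa [E, E0] using this
    have h2 : q.out⁻¹ * q'.out ∈ Subgroup.center Γ := by
      rw [Subgroup.mem_center_iff]
      intro y
      have h3 : pair ι hcomm (q.out⁻¹ * q'.out) y = 1 := by
        have h4 : pairHom ι hι hcent hcomm (q.out⁻¹ * q'.out) y = 1 := by
          rw [map_mul, map_inv, MonoidHom.mul_apply, MonoidHom.inv_apply, pairHom_apply, pairHom_apply, h1 y,
            inv_mul_cancel]
        exact h4
      exact ((pair_eq_one_iff ι hι hcomm _ _).mp h3).symm
    have h3 := QuotientGroup.eq.mpr (hcent' h2)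
    rw [QuotientGroup.out_eq', QuotientGroup.out_eq'] at h3
    exact h3
  have hcard : Nat.card ((Γ ⧸ ι.range) →* kˣ) = Nat.card (Γ ⧸ ι.range) :=
    CommGroup.card_monoidHom_of_hasEnoughRootsOfUnity _ _
  have hfin : Finite ((Γ ⧸ ι.range) →* kˣ) :=
    Nat.finite_of_card_ne_zero (by rw [hcard]; exact Nat.card_pos.ne')
  have hEbij : Function.Bijective E := (Nat.bijective_iff_injective_and_card E).mpr ⟨hEinj, hcard.symm⟩
  have hχ' : ι.range ≤ χ.ker := by
    rintro _ ⟨z, rfl⟩
    rw [MonoidHom.mem_ker, hχ]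
  obtain ⟨q, hq⟩ := hEbij.2 (QuotientGroup.lift ι.range χ hχ')
  refine ⟨q.out, fun x => ?_⟩
  have := DFunLike.congr_fun hq (x : Γ ⧸ ι.range)
  simpa [E, E0] using this

include hι hcent hcomm hcent' hcop in
/-- Every character of a subgroup `H`, trivial on `H ⊓ ι.range`, is `pair γ ·` for some `γ`. -/
theorem exists_pair_eq (H : Subgroup Γ) (χ : H →* kˣ) (hχ : ∀ h : H, (h : Γ) ∈ ι.range → χ h = 1) :
    ∃ γ : Γ, ∀ h : H, pair ι hcomm γ h = χ h := by
  have hnorm := normal_range ι hcent
  let cg : CommGroup (Γ ⧸ ι.range) := commGroupQuot ι hcomm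
  have hex : Monoid.exponent (Γ ⧸ ι.range) ∣ Nat.card (Γ ⧸ ι.range) := Group.exponent_dvd_nat_card
  have : HasEnoughRootsOfUnity k (Monoid.exponent (Γ ⧸ ι.range)) := hasEnough ι hcop _ hex
  let π : Γ →* Γ ⧸ ι.range := QuotientGroup.mk' ι.range
  let Hb : Subgroup (Γ ⧸ ι.range) := H.map π
  let f : H →* Hb := (π.subgroupMap H)
  have hf : Function.Surjective f := π.subgroupMap_surjective H
  have hker : f.ker ≤ χ.ker := by
    intro h hh
    rw [MonoidHom.mem_ker] at hh ⊢
    apply hχ
    have := congrArg Subtype.val hh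
    exact (QuotientGroup.eq_one_iff _).mp this
  let χb : Hb →* kˣ := f.liftOfSurjective hf ⟨χ, hker⟩
  have hχb : ∀ h : H, χb (f h) = χ h := fun h => by
    exact MonoidHom.liftOfRightInverse_comp_apply f _ (Function.rightInverse_surjInv hf) ⟨χ, hker⟩ h
  obtain ⟨ψ, hψ⟩ := MonoidHom.domRestrict_surjective (G := Γ ⧸ ι.range) k Hb χb
  obtain ⟨γ, hγ⟩ := exists_pair_eq_of_char ι hι hcent hcomm hcent' hcop (ψ.comp π) (fun z => by
    have : π (ι z) = 1 := (QuotientGroup.eq_one_iff _).mpr ⟨z, rfl⟩
    rw [MonoidHom.comp_apply, this, map_one])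
  refine ⟨γ, fun h => ?_⟩
  rw [hγ, ← hχb h, ← hψ]
  rfl

include hι hcent hcomm hcent' hcop in
/-- `|H/Z| · |C(H)/Z| = |Γ/Z|`. -/
theorem index_eq (H : Subgroup Γ) :
    ι.range.relIndex H * ι.range.relIndex (Subgroup.centralizer (H : Set Γ)) = ι.range.index := by
  have hnorm := normal_range ι hcent
  have hle : ι.range ≤ Subgroup.centralizer (H : Set Γ) := by
    rintro _ ⟨z, rfl⟩
    rw [Subgroup.mem_centralizer_iff]
    intro y _
    exact (ι_comm ι hcent z y).symm
  rw [← Subgroup.relIndex_mul_index hle, mul_comm]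
  congr 1
  -- index of the centralizer = number of characters of `H` trivial on `ι.range`
  have h1 : (Subgroup.centralizer (H : Set Γ)).index = Nat.card (resHom ι hι hcent hcomm H).range := by
    rw [← ker_resHom ι hι hcent hcomm H, Subgroup.index_ker]
  rw [h1]
  -- characters
  let cg : CommGroup (Γ ⧸ ι.range) := commGroupQuot ι hcomm
  let π : Γ →* Γ ⧸ ι.range := QuotientGroup.mk' ι.range
  let Hb : Subgroup (Γ ⧸ ι.range) := H.map π
  have hex : Monoid.exponent Hb ∣ Nat.card (Γ ⧸ ι.range) :=
    (Monoid.exponent_submonoid_dvd Hb.toSubmonoid).trans Group.exponent_dvd_nat_card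
  have : HasEnoughRootsOfUnity k (Monoid.exponent Hb) := hasEnough ι hcop _ hex
  have hcard : Nat.card (Hb →* kˣ) = Nat.card Hb := CommGroup.card_monoidHom_of_hasEnoughRootsOfUnity _ _
  let f : H →* Hb := (π.subgroupMap H)
  have hf : Function.Surjective f := π.subgroupMap_surjective H
  have hcardHb : Nat.card Hb = ι.range.relIndex H := by
    have h2 : f.ker = ι.range.subgroupOf H := by
      ext h
      rw [MonoidHom.mem_ker, Subgroup.mem_subgroupOf]
      constructor
      · intro hh
        exact (QuotientGroup.eq_one_iff _).mp (congrArg Subtype.val hh)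
      · intro hh
        exact Subtype.ext ((QuotientGroup.eq_one_iff _).mpr hh)
    have h3 : f.ker.index = Nat.card f.range := Subgroup.index_ker f
    rw [MonoidHom.range_eq_top.mpr hf, Subgroup.card_top, h2] at h3
    exact h3.symm
  have hrange : Nat.card (resHom ι hι hcent hcomm H).range = Nat.card (Hb →* kˣ) := by
    symm
    refine Nat.card_congr (Equiv.ofBijective (fun χ => ⟨χ.comp f, ?_⟩) ⟨?_, ?_⟩)
    · obtain ⟨γ, hγ⟩ := exists_pair_eq ι hι hcent hcomm hcent' hcop H (χ.comp f) (fun h hh => by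
        have : f h = 1 := Subtype.ext ((QuotientGroup.eq_one_iff _).mpr hh)
        rw [MonoidHom.comp_apply, this, map_one])
      exact ⟨γ, MonoidHom.ext fun h => hγ h⟩
    · intro χ χ' h
      have h' : χ.comp f = χ'.comp f := congrArg Subtype.val h
      exact (MonoidHom.cancel_right hf).mp h'
    · rintro ⟨_, ⟨γ, rfl⟩⟩
      have hker : f.ker ≤ (resHom ι hι hcent hcomm H γ).ker := by
        intro h hh
        have hh' : (h : Γ) ∈ ι.range := (QuotientGroup.eq_one_iff _).mp (congrArg Subtype.val hh)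
        obtain ⟨z, hz⟩ := hh'
        rw [MonoidHom.mem_ker, resHom_apply, ← hz, pair_ι_right ι hι hcent]
      refine ⟨f.liftOfSurjective hf ⟨_, hker⟩, Subtype.ext (MonoidHom.ext fun h => ?_)⟩
      exact MonoidHom.liftOfRightInverse_comp_apply f _ (Function.rightInverse_surjInv hf) ⟨_, hker⟩ h
  rw [hrange, hcard, hcardHb]

end Duality

end K997.ThetaPairing
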