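import Mathlib.RepresentationTheory.FDRep
import Mathlib.RepresentationTheory.Irreducible
import Mathlib.RepresentationTheory.Semisimple
import Mathlib.RepresentationTheory.Invariants
import Mathlib.LinearAlgebra.Dual.Lemmas
import Mathlib.LinearAlgebra.LinearIndependent.Basic
import Groth.Agent.ThetaRep.K997.Pairing

/-!
# Weight one representations of a theta group (group of points)

* `linearIndependent_of_eigen`: generic Dedekind type lemma.
* `linearIndependent_out`: in a nonzero weight one representation the operators `ρ q.out`, `q ∈ Γ/kˣ`,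
  are linearly independent.
* `span_range_eq_top`: Burnside's theorem.
* `finrank_sq_eq_card`: an irreducible weight one representation has `dim² = |Γ/kˣ|`.
* `exists_intertwining_ne_zero`: nonzero weight one representations have a nonzero intertwining map.
-/

set_option autoImplicit false

namespace K997.ThetaRepn

open K997.ThetaPairing

/-- Eigenvectors for distinct characters are linearly independent. -/
theorem linearIndependent_of_eigen {k Γ I W : Type*} [Field k] [Monoid Γ] [AddCommGroup W] [Module k W]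
    (v : I → W) (hv : ∀ i, v i ≠ 0) (χ : I → (Γ →* k)) (hχ : Function.Injective χ)
    (T : Γ → (W →ₗ[k] W)) (hT : ∀ γ i, T γ (v i) = χ i γ • v i) : LinearIndependent k v := by
  rw [linearIndependent_iff']
  intro s c hc i hi
  have h1 : ∀ φ : Module.Dual k W, ∑ j ∈ s, (c j * φ (v j)) • ((χ j : Γ → k)) = 0 := by
    intro φ
    funext γ
    have h2 := congrArg (T γ) hc
    rw [map_sum, map_zero] at h2
    have h3 := congrArg φ h2
    rw [map_sum, map_zero] at h3
    rw [Finset.sum_apply, Pi.zero_apply, ← h3]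
    refine Finset.sum_congr rfl fun j _ => ?_
    rw [map_smul, hT, map_smul, map_smul, Pi.smul_apply, smul_eq_mul, smul_eq_mul, smul_eq_mul]
    ring
  have hli : LinearIndependent k (fun j : I => (χ j : Γ → k)) :=
    (linearIndependent_monoidHom Γ k).comp χ hχ
  have h2 : ∀ φ : Module.Dual k W, c i * φ (v i) = 0 := fun φ =>
    (linearIndependent_iff'.mp hli) s (fun j => c j * φ (v j)) (h1 φ) i hi
  by_contra hci
  exact hv i ((Module.forall_dual_apply_eq_zero_iff k (v i)).mp fun φ =>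
    (mul_eq_zero.mp (h2 φ)).resolve_left hci)

/-- **Burnside**: an irreducible finite-dimensional representation over an algebraically closed field
spans all operators. -/
theorem span_range_eq_top {k Γ V : Type*} [Field k] [IsAlgClosed k] [Group Γ] [AddCommGroup V] [Module k V]
    [FiniteDimensional k V] (ρ : Representation k Γ V) (hρ : ρ.IsIrreducible) :
    Submodule.span k (Set.range ρ) = ⊤ := by
  classical
  rw [eq_top_iff]
  intro f _
  have hsimple : IsSimpleModule (MonoidAlgebra k Γ) ρ.asModule := inferInstance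
  have hbij := IsSimpleModule.algebraMap_end_bijective_of_isAlgClosed (A := MonoidAlgebra k Γ)
    (V := ρ.asModule) k
  let F : Module.End (Module.End (MonoidAlgebra k Γ) ρ.asModule) ρ.asModule :=
    { toFun := fun v => ρ.asModuleEquiv.symm (f (ρ.asModuleEquiv v))
      map_add' := fun v w => by simp
      map_smul' := fun g v => by
        obtain ⟨c, rfl⟩ := hbij.2 g
        have h1 : ∀ w : ρ.asModule, (algebraMap k (Module.End (MonoidAlgebra k Γ) ρ.asModule) c) • w = c • w :=
          fun w => rfl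
        rw [RingHom.id_apply, h1, h1, map_smul, map_smul, map_smul] }
  let b := Module.finBasis k V
  obtain ⟨r, hr⟩ := jacobson_density (R := MonoidAlgebra k Γ) F
    (Finset.univ.image fun i => ρ.asModuleEquiv.symm (b i))
  have hfr : f = ρ.asAlgebraHom r := by
    refine b.ext fun i => ?_
    have h2 := hr (ρ.asModuleEquiv.symm (b i)) (Finset.mem_image_of_mem _ (Finset.mem_univ _))
    have h3 := congrArg ρ.asModuleEquiv h2
    rw [ρ.asModuleEquiv_map_smul] at h3
    simpa [F] using h3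
  rw [hfr]
  clear hfr hr
  induction r using MonoidAlgebra.induction_linear with
  | zero => rw [map_zero]; exact Submodule.zero_mem _
  | add f g hf hg => rw [map_add]; exact Submodule.add_mem _ hf hg
  | single g c =>
    rw [ρ.asAlgebraHom_single]
    exact Submodule.smul_mem _ _ (Submodule.subset_span ⟨g, rfl⟩)

section

variable {k : Type*} [Field k] {Γ : Type*} [Group Γ] (ι : kˣ →* Γ)
  (hι : Function.Injective ι) (hcent : ι.range ≤ Subgroup.center Γ) (hcomm : commutator Γ ≤ ι.range)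
  {V W : Type*} [AddCommGroup V] [Module k V] [AddCommGroup W] [Module k W]
  (ρ : Representation k Γ V) (hρ : ∀ (z : kˣ) (v : V), ρ (ι z) v = (z : k) • v)
  (σ : Representation k Γ W) (hσ : ∀ (z : kˣ) (w : W), σ (ι z) w = (z : k) • w)

include hρ in
theorem rho_ι_mul (z : kˣ) (x : Γ) : ρ (ι z * x) = (z : k) • ρ x := by
  ext v
  rw [map_mul, Module.End.mul_apply, hρ, LinearMap.smul_apply]

include hρ in
theorem rho_mul_comm (x y : Γ) : ρ (x * y) = (pair ι hcomm x y : k) • ρ (y * x) := by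
  rw [mul_eq ι hcomm x y, rho_ι_mul ι ρ hρ]

include hρ in
/-- `ρ x` is a multiple of `ρ (class of x).out`. -/
theorem exists_rho_eq_smul_out (x : Γ) : ∃ z : kˣ, ρ x = (z : k) • ρ (x : Γ ⧸ ι.range).out := by
  obtain ⟨⟨_, z, rfl⟩, h⟩ := QuotientGroup.mk_out_eq_mul ι.range x
  refine ⟨z⁻¹, ?_⟩
  rw [h]
  ext v
  simp [map_mul, Module.End.mul_apply, hρ, smul_smul]

theorem rho_ne_zero [Nontrivial V] (x : Γ) : ρ x ≠ 0 := by
  intro h
  have h1 : ρ x * ρ x⁻¹ = 1 := by rw [← map_mul, mul_inv_cancel, map_one]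
  rw [h, zero_mul] at h1
  exact zero_ne_one h1

include hι hcent hcomm hρ in
theorem linearIndependent_out (hcent' : Subgroup.center Γ ≤ ι.range) [Nontrivial V] :
    LinearIndependent k (fun q : Γ ⧸ ι.range => ρ q.out) := by
  let χ : Γ ⧸ ι.range → (Γ →* k) := fun q =>
    (Units.coeHom k).comp (MonoidHom.mk' (fun γ => pair ι hcomm γ q.out)
      (fun a b => pair_mul_left ι hι hcent hcomm a b q.out))
  have hχval : ∀ q γ, χ q γ = (pair ι hcomm γ q.out : k) := fun _ _ => rfl
  refine linearIndependent_of_eigen (fun q : Γ ⧸ ι.range => ρ q.out) (fun q => rho_ne_zero ρ q.out) χ ?_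
    (fun γ => (LinearMap.mulLeft k (ρ γ)).comp (LinearMap.mulRight k (ρ γ⁻¹))) ?_
  · intro q q' h
    have h1 : ∀ γ, pair ι hcomm γ q.out = pair ι hcomm γ q'.out := fun γ => by
      have := DFunLike.congr_fun h γ
      rw [hχval, hχval] at this
      exact Units.ext this
    have h2 : q.out⁻¹ * q'.out ∈ Subgroup.center Γ := by
      rw [Subgroup.mem_center_iff]
      intro y
      rw [← pair_eq_one_iff ι hι hcomm]
      have h3 : pair ι hcomm y (q.out * (q.out⁻¹ * q'.out)) = pair ι hcomm y q'.out := by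
        rw [mul_inv_cancel_left]
      rw [pair_mul_right ι hι hcent, h1 y] at h3
      exact mul_left_cancel (h3.trans (mul_one _).symm)
    have h3 := QuotientGroup.eq.mpr (hcent' h2)
    rw [QuotientGroup.out_eq', QuotientGroup.out_eq'] at h3
    exact h3
  · intro γ q
    rw [hχval, LinearMap.comp_apply, LinearMap.mulRight_apply, LinearMap.mulLeft_apply, ← map_mul, ← map_mul,
      rho_mul_comm ι hcomm ρ hρ γ (q.out * γ⁻¹), mul_assoc, inv_mul_cancel, mul_one,
      pair_mul_right ι hι hcent]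
    have : pair ι hcomm γ γ⁻¹ = 1 := by
      rw [pair_eq_one_iff ι hι hcomm, mul_inv_cancel, inv_mul_cancel]
    rw [this, mul_one]

include hρ in
theorem span_out (h : Submodule.span k (Set.range ρ) = ⊤) :
    Submodule.span k (Set.range (fun q : Γ ⧸ ι.range => ρ q.out)) = ⊤ := by
  rw [eq_top_iff, ← h, Submodule.span_le]
  rintro _ ⟨x, rfl⟩
  obtain ⟨z, hz⟩ := exists_rho_eq_smul_out ι ρ hρ x
  rw [hz]
  exact Submodule.smul_mem _ _ (Submodule.subset_span ⟨_, rfl⟩)

include hι hcent hcomm hρ in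
/-- An irreducible weight one representation has `dim² = |Γ/kˣ|`. -/
theorem finrank_sq_eq_card (hcent' : Subgroup.center Γ ≤ ι.range) [IsAlgClosed k] [FiniteDimensional k V]
    [Finite (Γ ⧸ ι.range)] (hirr : ρ.IsIrreducible) :
    Module.finrank k V ^ 2 = Nat.card (Γ ⧸ ι.range) := by
  have hnt : Nontrivial V := by
    have h1 : Nontrivial (Subrepresentation ρ) := inferInstance
    by_contra hV
    rw [not_nontrivial_iff_subsingleton] at hV
    obtain ⟨a, b, hab⟩ := h1
    apply hab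
    apply SetLike.ext
    intro x
    rw [Subsingleton.elim x 0]
    exact iff_of_true a.toSubmodule.zero_mem b.toSubmodule.zero_mem
  let b := Module.Basis.mk (linearIndependent_out ι hι hcent hcomm ρ hρ hcent')
    (span_out ι ρ hρ (span_range_eq_top ρ hirr)).ge
  have h1 := Module.finrank_eq_nat_card_basis b
  rw [← h1, Module.finrank_linearMap, pow_two]

include hρ hσ in
/-- The operator `σ x ∘ T ∘ ρ x⁻¹` depends only on the class of `x`. -/
theorem conj_out (T : V →ₗ[k] W) (x : Γ) :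
    (σ x) ∘ₗ T ∘ₗ (ρ x⁻¹) = (σ (x : Γ ⧸ ι.range).out) ∘ₗ T ∘ₗ (ρ (x : Γ ⧸ ι.range).out⁻¹) := by
  obtain ⟨⟨_, z, rfl⟩, h⟩ := QuotientGroup.mk_out_eq_mul ι.range x
  rw [h]
  ext v
  simp only [LinearMap.comp_apply, mul_inv_rev, map_mul, Module.End.mul_apply]
  rw [hσ, ← map_inv, hρ, map_smul, map_smul, map_smul, smul_smul]
  simp

include hcent hρ hσ in
/-- averaging an operator gives an intertwining map -/
theorem avg_intertwining [Finite (Γ ⧸ ι.range)] (T : V →ₗ[k] W) (γ : Γ) :
    (σ γ) ∘ₗ (∑ᶠ q : Γ ⧸ ι.range, (σ q.out) ∘ₗ T ∘ₗ (ρ q.out⁻¹)) =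
      (∑ᶠ q : Γ ⧸ ι.range, (σ q.out) ∘ₗ T ∘ₗ (ρ q.out⁻¹)) ∘ₗ (ρ γ) := by
  have := Fintype.ofFinite (Γ ⧸ ι.range)
  have hnorm := normal_range ι hcent
  rw [finsum_eq_sum_of_fintype]
  have h1 : ∀ q : Γ ⧸ ι.range, (σ γ) ∘ₗ ((σ q.out) ∘ₗ T ∘ₗ (ρ q.out⁻¹)) =
      ((σ ((γ : Γ ⧸ ι.range) * q).out) ∘ₗ T ∘ₗ (ρ ((γ : Γ ⧸ ι.range) * q).out⁻¹)) ∘ₗ (ρ γ) := by
    intro q
    have h2 : (γ : Γ ⧸ ι.range) * q = ((γ * q.out : Γ) : Γ ⧸ ι.range) := by
      rw [QuotientGroup.mk_mul, QuotientGroup.out_eq']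
    rw [h2, ← conj_out ι ρ hρ σ hσ T (γ * q.out)]
    ext v
    simp only [LinearMap.comp_apply, mul_inv_rev, map_mul, Module.End.mul_apply]
    rw [← Module.End.mul_apply (ρ γ⁻¹), ← map_mul, inv_mul_cancel, map_one, Module.End.one_apply]
  have h3 : (σ γ) ∘ₗ (∑ q : Γ ⧸ ι.range, (σ q.out) ∘ₗ T ∘ₗ (ρ q.out⁻¹)) =
      ∑ q : Γ ⧸ ι.range, (σ γ) ∘ₗ ((σ q.out) ∘ₗ T ∘ₗ (ρ q.out⁻¹)) := by
    ext v; simp [LinearMap.sum_apply]
  have h4 : (∑ q : Γ ⧸ ι.range, (σ q.out) ∘ₗ T ∘ₗ (ρ q.out⁻¹)) ∘ₗ (ρ γ) =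
      ∑ q : Γ ⧸ ι.range, ((σ q.out) ∘ₗ T ∘ₗ (ρ q.out⁻¹)) ∘ₗ (ρ γ) := by
    ext v; simp [LinearMap.sum_apply]
  rw [h3, h4, Finset.sum_congr rfl fun q _ => h1 q]
  exact Fintype.sum_equiv (Equiv.mulLeft (γ : Γ ⧸ ι.range)) _ _ (fun q => rfl)

include hι hcent hcomm hρ hσ in
/-- Nonzero weight one representations have a nonzero intertwining map between them. -/
theorem exists_intertwining_ne_zero (hcent' : Subgroup.center Γ ≤ ι.range) [Finite (Γ ⧸ ι.range)]
    [Nontrivial V] [Nontrivial W] : ∃ f : Representation.IntertwiningMap ρ σ, f ≠ 0 := by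
  have := Fintype.ofFinite (Γ ⧸ ι.range)
  by_contra hcon
  push Not at hcon
  have h0 : ∀ T : V →ₗ[k] W, (∑ q : Γ ⧸ ι.range, (σ q.out) ∘ₗ T ∘ₗ (ρ q.out⁻¹)) = 0 := by
    intro T
    have h1 := avg_intertwining ι hcent ρ hρ σ hσ T
    have h2 := hcon ⟨∑ᶠ q : Γ ⧸ ι.range, (σ q.out) ∘ₗ T ∘ₗ (ρ q.out⁻¹), fun γ => (h1 γ).symm⟩
    have h3 := congrArg Representation.IntertwiningMap.toLinearMap h2
    rw [← finsum_eq_sum_of_fintype]
    exact h3
  obtain ⟨v, hv⟩ := exists_ne (0 : V)
  have hli := linearIndependent_out ι hι hcent hcomm σ hσ hcent'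
  obtain ⟨f, hf⟩ : ∃ f : Module.Dual k V, f v ≠ 0 := by
    by_contra h
    push Not at h
    exact hv ((Module.forall_dual_apply_eq_zero_iff k v).mp h)
  have h1 : ∑ q : Γ ⧸ ι.range, (f (ρ q.out⁻¹ v)) • σ q.out = 0 := by
    ext w
    have h2 := LinearMap.congr_fun (h0 (f.smulRight w)) v
    rw [LinearMap.sum_apply] at h2
    rw [LinearMap.sum_apply, LinearMap.zero_apply]
    rw [LinearMap.zero_apply] at h2
    rw [← h2]
    refine Finset.sum_congr rfl fun q _ => ?_
    simp
  have h2 := (Fintype.linearIndependent_iff.mp hli) _ h1 ((1 : Γ) : Γ ⧸ ι.range)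
  obtain ⟨⟨_, z, rfl⟩, h⟩ := QuotientGroup.mk_out_eq_mul ι.range (1 : Γ)
  rw [h, one_mul, ← map_inv, hρ, map_smul, smul_eq_mul] at h2
  exact (mul_ne_zero (Units.ne_zero _) hf) h2

include hι hcent hcomm hρ hσ in
/-- Irreducible weight one representations are equivalent. -/
theorem nonempty_equiv (hcent' : Subgroup.center Γ ≤ ι.range) [Finite (Γ ⧸ ι.range)]
    [Nontrivial V] [Nontrivial W] (h₁ : ρ.IsIrreducible) (h₂ : σ.IsIrreducible) :
    Nonempty (ρ.Equiv σ) := by
  obtain ⟨f, hf⟩ := exists_intertwining_ne_zero ι hι hcent hcomm ρ hρ σ hσ hcent'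
  exact ⟨f.ofBijective ((Representation.IsIrreducible.bijective_or_eq_zero f).resolve_right hf)⟩

end

end K997.ThetaRepn
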